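import Groth.Agent.Castelnuovo.Polarized
import Groth.Agent.ArSurfInter.Components
import Groth.Agent.MdlInter.Exc
import Groth.Agent.DescLib.SubtrVal
import Groth.Agent.ContractUP.Main
import Groth.Agent.SurfModel.ContrProper
import Groth.Agent.ChowX.QuasiProj
import Groth.Agent.H23.PicInv
import Groth.Agent.FibDim.LocDim
import Groth.Agent.S9710
import Groth.Agent.S1682

/-!
# Contraction of an exceptional vertical curve on an arithmetic surface
-/

set_option autoImplicit false
set_option linter.style.haveILetI false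
set_option linter.unusedSectionVars false
set_option backward.isDefEq.respectTransparency false
set_option backward.isDefEq.respectTransparency.types false
set_option maxHeartbeats 1000000

universe u

open CategoryTheory CategoryTheory.Limits AlgebraicGeometry TopologicalSpace
open scoped Groth.Agent.H23.PicMul

namespace Groth.Agent.ArSurfContract

open Groth.Agent

variable {R : Type u} [CommRing R]

theorem exists_isAmple_of_isProjectiveOver {X : Over (Spec (CommRingCat.of R))} (h : Neron.IsProjectiveOver R X) :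
    IsProper X.hom ∧ ∃ L : X.left.Modules, CohB1.IsAmple L := by
  obtain ⟨n, j, hj, hjr⟩ := h
  let P := CohB1.ProjSpaceOver.toBase n (Spec (CommRingCat.of R))
  haveI : IsProper (CohB1.ProjSpace.toSpec n (ULift.{u} ℤ)) := PnCoh.Chow.isProper_toSpec n _
  haveI : IsProper P := MorphismProperty.pullback_snd _ _ inferInstance
  haveI := hj
  haveI : IsProper (j ≫ P) := inferInstance
  refine ⟨hjr ▸ this, _, (AmpleX.isRelAmple_iff_isAmple (j ≫ P) _).1
    (AmpleX.isRelAmple_pullback_embedding P j j.isEmbedding (ChowX.isRelAmple_twistOver n _))⟩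

theorem isProjectiveOver_of_isAmple {X : Scheme.{u}} (p : X ⟶ Spec (CommRingCat.of R)) [IsProper p] {L : X.Modules}
    (hL : CohB1.IsAmple L) : Neron.IsProjectiveOver R (Over.mk p) := by
  obtain ⟨d, -, h⟩ := S9710.result p L hL
  obtain ⟨n, i, hi, hir, -⟩ := h d le_rfl
  haveI := hi
  let P := CohB1.ProjSpaceOver.toBase n (Spec (CommRingCat.of R))
  haveI : IsProper (CohB1.ProjSpace.toSpec n (ULift.{u} ℤ)) := PnCoh.Chow.isProper_toSpec n _
  haveI : IsProper P := MorphismProperty.pullback_snd _ _ inferInstance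
  haveI : IsProper (i ≫ P) := by
    rw [show i ≫ P = p from hir]; infer_instance
  haveI : IsProper i := IsProper.of_comp i P
  exact ⟨n, i, .of_isPreimmersion i i.isClosedMap.isClosed_range, hir⟩

variable [IsDomain R] [IsDiscreteValuationRing R]

/-- An exceptional vertical curve on an arithmetic surface contracts to an arithmetic surface. -/
theorem exists_contraction {X : Over (Spec (CommRingCat.of R))} (hX : ArSurf.IsArithSurface R X)
    (G : ArSurf.VertComp R X) (hG : Models.IsExcCurve G.ι) :
    ∃ (Y : Over (Spec (CommRingCat.of R))) (f : X ⟶ Y) (y : Y.left) (hy : IsClosed ({y} : Set Y.left)),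
      ArSurf.IsArithSurface R Y ∧ Models.IsContractionOf G.ι f.left ∧
      Y.hom y = IsLocalRing.closedPoint R ∧ Set.range (G.ι ≫ f.left) = {y} ∧
      (f.left ⁻¹ᵁ (⟨{y}ᶜ, hy.isOpen_compl⟩ : Y.left.Opens) : Set X.left) = (Set.range G.ι)ᶜ ∧
      IsIso (f.left ∣_ (⟨{y}ᶜ, hy.isOpen_compl⟩ : Y.left.Opens)) := by
  haveI := G.isClosedImmersion
  haveI := G.isIntegral
  obtain ⟨hreg, hint, hdim, hflat, hproj⟩ := id hX
  haveI := hint
  haveI := hflat
  obtain ⟨hprop, L, hL⟩ := exists_isAmple_of_isProjectiveOver hproj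
  haveI := hprop
  obtain ⟨M, -, hM⟩ := H23.PicInv.exists_inverse ((S8914.result _).2 hG.1)
  have hM' : ClSub.IsInverseOf M (ClSub.idealMod G.ι.ker) := by
    refine (PicGrp.cl_eq_cl_iff _ _).1 ?_
    rw [H23.PicMul.cl_tensor, mul_comm, ← H23.PicMul.cl_tensor]
    exact H23.PicMul.cl_eq_iff.2 hM
  obtain ⟨X', b, p', hb, hbp, hp', _, L', hL', -⟩ :=
    Castelnuovo.exists_contraction_polarized G.ι X.hom L hL hG M hM'
  haveI := hp'
  obtain ⟨hpb, hsurj, -, hinj⟩ := ContractUP.contraction_props G.ι b hG hb
  obtain ⟨hN, -, y, hy, hr, hreg0, hd0, hbl⟩ := id hb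
  haveI := hN
  haveI := hpb
  haveI := hsurj
  let W : X'.Opens := ⟨{y}ᶜ, hy.isOpen_compl⟩
  have hWeq : W = (Scheme.IdealSheafData.vanishingIdeal (⟨{y}, hy⟩ : Closeds X')).support.compl := by
    ext1
    show ({y} : Set X')ᶜ = ((Scheme.IdealSheafData.vanishingIdeal (⟨{y}, hy⟩ : Closeds X')).support : Set X')ᶜ
    simp [hy.closure_eq]
  haveI hWiso : IsIso (b ∣_ W) := hWeq ▸ S1682.result _ b hbl
  have hι : ∀ t, b (G.ι t) = y := fun t => hr.le ⟨t, rfl⟩
  have hfib : b ⁻¹' {y} = Set.range G.ι := by
    refine Set.Subset.antisymm (fun z hz => ?_) (by rintro _ ⟨t, rfl⟩; exact hι t)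
    let t := genericPoint G.curve.left
    rcases hinj z (G.ι t) ((show b z = y from hz).trans (hι t).symm) with h | h
    · exact ⟨t, h.symm⟩
    · exact h.1
  have hys : p' y = IsLocalRing.closedPoint R := by
    let t := genericPoint G.curve.left
    rw [← hι t, ← Scheme.Hom.comp_apply, hbp]
    exact ArSurfInter.image_mem_specialFibreSet G t
  have hloc : ∀ z : X', z ≠ y → ∃ v : X.left, b v = z ∧
      Nonempty (X'.presheaf.stalk z ≃+* X.left.presheaf.stalk v) := by
    intro z hz
    obtain ⟨v, rfl⟩ := b.surjective z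
    have hv : b v ∈ W := hz
    haveI : IsIso ((b ∣_ W).stalkMap ⟨v, hv⟩) := inferInstance
    haveI : IsIso (b.stalkMap v) :=
      ((MorphismProperty.isomorphisms CommRingCat).arrow_mk_iso_iff (morphismRestrictStalkMap b W ⟨v, hv⟩)).1
        (inferInstanceAs (IsIso ((b ∣_ W).stalkMap ⟨v, hv⟩)))
    exact ⟨v, rfl, ⟨(asIso (b.stalkMap v)).commRingCatIsoToRingEquiv⟩⟩
  have hreg' : ∀ z : X', IsRegularLocalRing (X'.presheaf.stalk z) := fun z => by
    by_cases hz : z = y
    · exact hz.symm ▸ hreg0
    obtain ⟨v, -, ⟨e⟩⟩ := hloc z hz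
    haveI := hreg v
    exact IsRegularLocalRing.of_ringEquiv e.symm
  haveI : IrreducibleSpace X' := by
    have h := (IrreducibleSpace.isIrreducible_univ X.left).image b b.continuous.continuousOn
    rw [Set.image_univ, b.surjective.range_eq] at h
    exact { isPreirreducible_univ := h.2, toNonempty := ⟨b (genericPoint X.left)⟩ }
  haveI : ∀ z : X', _root_.IsReduced (X'.presheaf.stalk z) := fun z => by
    haveI := hreg' z
    haveI : IsDomain (X'.presheaf.stalk z) := RegLoc6.isDomain_of_isRegularLocalRing _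
    infer_instance
  haveI : IsReduced X' := isReduced_of_isReduced_stalk X'
  haveI : IsIntegral X' := isIntegral_of_irreducibleSpace_of_isReduced X'
  haveI : IsLocallyNoetherian X' := LocallyOfFiniteType.isLocallyNoetherian p'
  have hflat' : Flat p' := by
    refine DescLib.flat_of_dominant_integral (V := R) p' ?_
    have hg : b (genericPoint X.left) = genericPoint X' := by
      refine ((genericPoint_spec X.left).image b.continuous).eq ?_
      rw [Set.image_univ, b.surjective.range_eq, closure_univ]
      exact genericPoint_spec X'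
    have hne : X.hom (genericPoint X.left) ≠ IsLocalRing.closedPoint R :=
      ArSurfInter.gen_over_bot hX _ fun z hz => (hz.antisymm (genericPoint_specializes z)).eq
    rw [← hg, ← Scheme.Hom.comp_apply, hbp]
    let q : PrimeSpectrum R := X.hom (genericPoint X.left)
    have hq : q.asIdeal = ⊥ := by
      by_contra h
      refine hne (PrimeSpectrum.ext ?_)
      exact IsLocalRing.eq_maximalIdeal (q.isPrime.isMaximal h)
    exact PrimeSpectrum.ext hq
  have hdim' : topologicalKrullDim X' = 2 := by
    refine le_antisymm ?_ (hd0.ge.trans (SchTop.ringKrullDim_stalk_le y))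
    rw [FibDim.topologicalKrullDim_eq_iSup_codim]
    refine iSup_le fun z => ?_
    rw [DimFormula.coe_codim, ← ringKrullDim_stalk_eq_coheight]
    by_cases hz : z = y
    · subst hz; exact hd0.le
    obtain ⟨v, -, ⟨e⟩⟩ := hloc z hz
    rw [ringKrullDim_eq_of_ringEquiv e]
    exact (SchTop.ringKrullDim_stalk_le v).trans hdim.le
  refine ⟨Over.mk p', Over.homMk b hbp, y, hy, ⟨hreg', inferInstanceAs (IsIntegral X'), hdim', hflat',
    isProjectiveOver_of_isAmple p' hL'⟩, hb, hys, hr, ?_, hWiso⟩
  show (b ⁻¹' ({y} : Set X')ᶜ) = _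
  rw [Set.preimage_compl, hfib]

end Groth.Agent.ArSurfContract
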